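import Mathlib
import Cfsg.Agent.EqLemmas

/-! Mann's lower bound for the order of a p-group of given derived length. -/

set_option autoImplicit false
set_option linter.unusedSectionVars false
set_option linter.style.haveILetI false

open Subgroup
open scoped commutatorElement

namespace Cfsg.Agent.MannBound

variable {G : Type*} [Group G]

/-- Iterated commutator with the whole group. -/
def cs (A : Subgroup G) : ℕ → Subgroup G
  | 0 => A
  | n + 1 => ⁅cs A n, ⊤⁆

/-- Iterated derived subgroup of a subgroup, inside the ambient group. -/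
def ds (A : Subgroup G) : ℕ → Subgroup G
  | 0 => A
  | n + 1 => ds ⁅A, A⁆ n

theorem cs_add (A : Subgroup G) (i : ℕ) : ∀ j, cs (cs A i) j = cs A (i + j)
  | 0 => rfl
  | j + 1 => by
    show ⁅cs (cs A i) j, ⊤⁆ = ⁅cs A (i + j), ⊤⁆
    rw [cs_add A i j]

theorem cs_mono {A B : Subgroup G} (h : A ≤ B) : ∀ j, cs A j ≤ cs B j
  | 0 => h
  | j + 1 => commutator_mono (cs_mono h j) le_rfl

theorem cs_normal (A : Subgroup G) [hA : A.Normal] : ∀ j, (cs A j).Normal
  | 0 => hA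
  | j + 1 => by
    haveI := cs_normal A j
    exact commutator_normal _ _

theorem cs_antitone (A : Subgroup G) [A.Normal] {i j : ℕ} (h : i ≤ j) : cs A j ≤ cs A i := by
  induction h with
  | refl => exact le_rfl
  | @step k _ ih =>
    haveI := cs_normal A k
    exact le_trans (commutator_le_left _ _) ih

theorem cs_top (j : ℕ) : cs (⊤ : Subgroup G) j = (⊤ : Subgroup G).lowerCentralSeries j := by
  induction j with
  | zero => rfl
  | succ j ih => show ⁅cs ⊤ j, ⊤⁆ = _; rw [ih]; rfl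

theorem sup_comm_le {A B C N : Subgroup G} [N.Normal] (hA : ⁅A, C⁆ ≤ N) (hB : ⁅B, C⁆ ≤ N) :
    ⁅A ⊔ B, C⁆ ≤ N := by
  have key : ∀ D : Subgroup G, D ≤ N ↔ D.map (QuotientGroup.mk' N) = ⊥ := fun D => by
    rw [Subgroup.map_eq_bot_iff, QuotientGroup.ker_mk']
  rw [key, map_commutator, commutator_eq_bot_iff_le_centralizer, Subgroup.map_sup, sup_le_iff,
    ← commutator_eq_bot_iff_le_centralizer, ← commutator_eq_bot_iff_le_centralizer,
    ← map_commutator, ← map_commutator, ← key, ← key]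
  exact ⟨hA, hB⟩

theorem three_le {A B C N : Subgroup G} [N.Normal] (h1 : ⁅⁅B, C⁆, A⁆ ≤ N) (h2 : ⁅⁅C, A⁆, B⁆ ≤ N) :
    ⁅⁅A, B⁆, C⁆ ≤ N := by
  have key : ∀ D : Subgroup G, D ≤ N ↔ D.map (QuotientGroup.mk' N) = ⊥ := fun D => by
    rw [Subgroup.map_eq_bot_iff, QuotientGroup.ker_mk']
  rw [key, map_commutator, map_commutator] at h1 h2 ⊢
  exact commutator_commutator_eq_bot_of_rotate h1 h2

/-- `[A, γ_{j+1}] ≤ [A, G, …, G]` (`j + 1` copies). -/
theorem comm_lcs_le : ∀ (j : ℕ) (A : Subgroup G), A.Normal → ⁅A, cs ⊤ j⁆ ≤ cs A (j + 1)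
  | 0, A, _ => le_rfl
  | j + 1, A, hA => by
    haveI := hA
    haveI := cs_normal A (j + 1 + 1)
    haveI : (cs A 1).Normal := cs_normal A 1
    rw [commutator_comm]
    show ⁅⁅cs ⊤ j, ⊤⁆, A⁆ ≤ _
    refine three_le ?_ ?_
    · rw [commutator_comm (H₁ := (⊤ : Subgroup G))]
      refine le_trans (comm_lcs_le j (cs A 1) inferInstance) ?_
      rw [cs_add, show 1 + (j + 1) = j + 1 + 1 by omega]
    · exact commutator_mono (comm_lcs_le j A hA) le_rfl

theorem cs_le_lcs {A : Subgroup G} {M : ℕ} (h : A ≤ cs ⊤ M) (j : ℕ) : cs A j ≤ cs ⊤ (M + j) := by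
  rw [← cs_add]
  exact cs_mono h j

theorem comm_cs_le {H : Subgroup G} [H.Normal] {M : ℕ} (hM : H ≤ cs ⊤ M) (j : ℕ) :
    ⁅cs H j, H⁆ ≤ cs H (j + M + 1) := by
  refine le_trans (commutator_mono le_rfl hM) (le_trans (comm_lcs_le M _ (cs_normal H j)) ?_)
  rw [cs_add, Nat.add_assoc]

/-- The top factor is cyclic. -/
def Cyc (H : Subgroup G) : Prop := ∃ x ∈ H, H ≤ zpowers x ⊔ ⁅H, ⊤⁆

theorem gen_comm_le {K H : Subgroup G} [K.Normal] {s : Set G} (hH : H ≤ closure s)
    (h : ∀ a ∈ s, ∀ b ∈ s, ⁅a, b⁆ ∈ K) : ⁅H, H⁆ ≤ K := by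
  refine le_trans (commutator_mono hH hH) ?_
  have key : ∀ D : Subgroup G, D ≤ K ↔ D.map (QuotientGroup.mk' K) = ⊥ := fun D => by
    rw [Subgroup.map_eq_bot_iff, QuotientGroup.ker_mk']
  rw [key, map_commutator, commutator_eq_bot_iff_le_centralizer, MonoidHom.map_closure,
    closure_le, centralizer_closure]
  rintro _ ⟨a, ha, rfl⟩
  rw [SetLike.mem_coe, mem_centralizer_iff]
  rintro _ ⟨b, hb, rfl⟩
  rw [← commutatorElement_eq_one_iff_mul_comm, ← map_commutatorElement, ← MonoidHom.mem_ker,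
    QuotientGroup.ker_mk']
  exact h b hb a ha

section PGroup

variable [Finite G] {p : ℕ} [hp : Fact p.Prime] (hG : IsPGroup p G)

include hG

/-- The exponent of the order. -/
theorem exists_exp (A : Subgroup G) : ∃ e, Nat.card A = p ^ e :=
  (hG.to_subgroup A).exists_card_eq

/-- The exponent of the order. -/
noncomputable def ex (A : Subgroup G) : ℕ := Classical.choose (exists_exp hG A)

theorem ex_spec (A : Subgroup G) : Nat.card A = p ^ ex hG A := Classical.choose_spec (exists_exp hG A)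

theorem ex_lt {A B : Subgroup G} (h : A < B) : ex hG A < ex hG B := by
  have hlt : Nat.card A < Nat.card B := by
    have := Set.ncard_lt_ncard (SetLike.coe_ssubset_coe.2 h) (Set.toFinite _)
    exact (Nat.card_coe_set_eq (A : Set G)).trans_lt (this.trans_eq (Nat.card_coe_set_eq (B : Set G)).symm)
  rw [ex_spec hG, ex_spec hG] at hlt
  exact (Nat.pow_lt_pow_iff_right hp.out.one_lt).1 hlt

theorem ex_le {A B : Subgroup G} (h : A ≤ B) : ex hG A ≤ ex hG B := by
  rcases h.eq_or_lt with rfl | h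
  · exact le_rfl
  · exact (ex_lt hG h).le

theorem one_le_ex {A : Subgroup G} (h : A ≠ ⊥) : 1 ≤ ex hG A := by
  have := ex_lt hG (bot_lt_iff_ne_bot.2 h)
  omega

theorem eq_bot_of_le_comm {A : Subgroup G} [A.Normal] (h : A ≤ ⁅A, ⊤⁆) : A = ⊥ := by
  haveI : Group.IsNilpotent G := hG.isNilpotent
  obtain ⟨n, hn⟩ := Subgroup.nilpotent_iff_lowerCentralSeries.1 (inferInstance : Group.IsNilpotent G)
  have : ∀ t, A ≤ cs ⊤ t := by
    intro t
    induction t with
    | zero => exact le_top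
    | succ t ih => exact h.trans (commutator_mono ih le_rfl)
  have := this n
  rw [cs_top, hn] at this
  exact le_bot_iff.1 this

variable {H : Subgroup G} [H.Normal] {M : ℕ} (hM : H ≤ cs ⊤ M)

include hM

omit hG hp in
theorem der_le_cs : ⁅H, H⁆ ≤ cs H (M + 1) := by
  refine (comm_cs_le hM 0).trans ?_
  rw [Nat.zero_add]

omit hG hp in
theorem der_le_lcs : ⁅H, H⁆ ≤ cs ⊤ (2 * M + 1) := by
  refine (der_le_cs hM).trans ((cs_le_lcs hM _).trans ?_)
  rw [show M + (M + 1) = 2 * M + 1 by omega]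

variable (hD : ⁅H, H⁆ ≠ ⊥)

include hD

omit hM in
theorem step_lt_aux (j : ℕ) (h : cs H j ≤ cs H (j + 1) ⊔ ⁅H, H⁆) : cs H j ≤ ⁅H, H⁆ := by
  haveI : ∀ i, (cs H i).Normal := cs_normal H
  haveI : Group.IsNilpotent G := hG.isNilpotent
  have key : ∀ t, cs H j ≤ cs H (j + t) ⊔ ⁅H, H⁆ := by
    intro t
    induction t with
    | zero => exact le_sup_left
    | succ t ih =>
      refine h.trans (sup_le ?_ le_sup_right)
      haveI : (cs H (j + (t + 1)) ⊔ ⁅H, H⁆).Normal := inferInstance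
      refine le_trans (commutator_mono ih le_rfl) (sup_comm_le le_sup_left ?_)
      exact le_trans (commutator_le_left _ _) le_sup_right
  obtain ⟨n, hn⟩ := Subgroup.nilpotent_iff_lowerCentralSeries.1 (inferInstance : Group.IsNilpotent G)
  refine (key n).trans (sup_le ?_ le_rfl)
  have h0 : cs H n ≤ cs ⊤ n := cs_mono le_top n
  rw [cs_top, hn] at h0
  exact le_trans (cs_antitone H (Nat.le_add_left n j)) (h0.trans bot_le)

theorem not_cs_le_der {j : ℕ} (hj : j ≤ M) : ¬ cs H j ≤ ⁅H, H⁆ := by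
  intro h
  refine hD (eq_bot_of_le_comm hG ?_)
  calc ⁅H, H⁆ ≤ cs H (M + 1) := der_le_cs hM
    _ ≤ cs H (j + 1) := cs_antitone H (by omega)
    _ ≤ _ := commutator_mono h le_rfl

theorem chain : ∀ t, t ≤ M → ex hG (cs H (1 + t) ⊔ ⁅H, H⁆) + t ≤ ex hG ⁅H, ⊤⁆
  | 0, _ => by
    refine ex_le hG (sup_le le_rfl (commutator_mono le_rfl le_top))
  | t + 1, ht => by
    have ih := chain t (by omega)
    have hlt : cs H (1 + (t + 1)) ⊔ ⁅H, H⁆ < cs H (1 + t) ⊔ ⁅H, H⁆ := by
      refine lt_of_le_of_ne (sup_le_sup_right (cs_antitone H (by omega)) _) fun e => ?_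
      refine not_cs_le_der hG hM hD (j := 1 + t) (by omega) (step_lt_aux hG hD (1 + t) ?_)
      show cs H (1 + t) ≤ cs H (1 + (t + 1)) ⊔ ⁅H, H⁆
      rw [e]
      exact le_sup_left
    have := ex_lt hG hlt
    omega

omit hM in
theorem top_lt : ⁅H, ⊤⁆ < H := by
  refine lt_of_le_of_ne (commutator_le_left _ _) fun e => hD ?_
  have : H = ⊥ := eq_bot_of_le_comm hG e.ge
  rw [this, commutator_bot_left]

omit hM in
theorem top_two (hc : ¬ Cyc H) : ex hG ⁅H, ⊤⁆ + 2 ≤ ex hG H := by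
  have hlt := top_lt hG hD
  obtain ⟨x, hx, hx'⟩ := SetLike.exists_of_lt hlt
  have h1 : ⁅H, ⊤⁆ < zpowers x ⊔ ⁅H, ⊤⁆ :=
    lt_of_le_of_ne le_sup_right fun e => hx' (e ▸ mem_sup_left (mem_zpowers x))
  have h2 : zpowers x ⊔ ⁅H, ⊤⁆ < H :=
    lt_of_le_of_ne (sup_le (zpowers_le.2 hx) hlt.le) fun e => hc ⟨x, hx, e.ge⟩
  have := ex_lt hG h1
  have := ex_lt hG h2
  omega

/-- General step. -/
theorem step : ex hG ⁅H, H⁆ + (M + 2) ≤ ex hG H ∧
    (Cyc H → ⁅H, H⁆ ≤ cs ⊤ (2 * M + 2)) ∧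
    (ex hG ⁅H, H⁆ + (M + 3) ≤ ex hG H ∨ Cyc H ∨ Cyc ⁅H, H⁆) := by
  haveI : ∀ i, (cs H i).Normal := cs_normal H
  have hch := chain hG hM hD M le_rfl
  rw [show 1 + M = M + 1 by omega] at hch
  have hle : ex hG ⁅H, H⁆ ≤ ex hG (cs H (M + 1) ⊔ ⁅H, H⁆) := ex_le hG le_sup_right
  have hlt := ex_lt hG (top_lt hG hD)
  have hc1 : ⁅cs H 1, H⁆ ≤ cs H (M + 2) := by
    refine (comm_cs_le hM 1).trans ?_
    rw [show 1 + M + 1 = M + 2 by omega]
  have hcyc : Cyc H → ⁅H, H⁆ ≤ cs H (M + 2) := by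
    rintro ⟨x, hx, hle'⟩
    refine gen_comm_le (s := {x} ∪ (cs H 1 : Set G)) ?_ ?_
    · refine hle'.trans (sup_le (zpowers_le.2 (subset_closure (Or.inl rfl))) ?_)
      exact fun z hz => subset_closure (Or.inr hz)
    · intro a ha b hb
      have hH1 : cs H 1 ≤ H := cs_antitone H (Nat.zero_le 1)
      rcases ha with rfl | ha
      · rcases hb with rfl | hb
        · rw [commutatorElement_self]; exact one_mem _
        · rw [← commutatorElement_inv]
          exact inv_mem (hc1 (commutator_mem_commutator hb hx))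
      · refine hc1 (commutator_mem_commutator ha ?_)
        rcases hb with rfl | hb
        · exact hx
        · exact hH1 hb
  refine ⟨?_, ?_, ?_⟩
  · by_cases hc : Cyc H
    · have hlt2 : ⁅H, H⁆ < cs H (M + 1) ⊔ ⁅H, H⁆ := by
        refine lt_of_le_of_ne le_sup_right fun e => hD (eq_bot_of_le_comm hG ?_)
        refine (hcyc hc).trans (commutator_mono (?_ : cs H (M + 1) ≤ ⁅H, H⁆) le_rfl)
        rw [e]; exact le_sup_left
      have := ex_lt hG hlt2
      omega
    · have := top_two hG hD hc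
      omega
  · intro hc
    refine (hcyc hc).trans ((cs_le_lcs hM _).trans ?_)
    rw [show M + (M + 2) = 2 * M + 2 by omega]
  · by_cases hc : Cyc H
    · exact Or.inr (Or.inl hc)
    have h2 := top_two hG hD hc
    by_cases heq : cs H (M + 1) ≤ ⁅H, H⁆
    swap
    · have hlt2 : ⁅H, H⁆ < cs H (M + 1) ⊔ ⁅H, H⁆ := right_lt_sup.2 heq
      have := ex_lt hG hlt2
      left; omega
    rcases lt_or_ge (ex hG ⁅H, ⊤⁆ + 2) (ex hG H) with h3 | h3
    · left; omega
    right; right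
    -- two generators modulo `[H, G]`
    obtain ⟨x, hx, hx'⟩ := SetLike.exists_of_lt (top_lt hG hD)
    have e1 : ⁅H, ⊤⁆ < zpowers x ⊔ ⁅H, ⊤⁆ :=
      lt_of_le_of_ne le_sup_right fun e => hx' (e ▸ mem_sup_left (mem_zpowers x))
    have e2 : zpowers x ⊔ ⁅H, ⊤⁆ < H :=
      lt_of_le_of_ne (sup_le (zpowers_le.2 hx) (top_lt hG hD).le) fun e => hc ⟨x, hx, e.ge⟩
    obtain ⟨y, hy, hy'⟩ := SetLike.exists_of_lt e2
    have hgen : H ≤ zpowers y ⊔ (zpowers x ⊔ ⁅H, ⊤⁆) := by
      have hle' : zpowers y ⊔ (zpowers x ⊔ ⁅H, ⊤⁆) ≤ H := sup_le (zpowers_le.2 hy) e2.le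
      rcases hle'.eq_or_lt with e | e
      · exact e.ge
      · exfalso
        have e3 : zpowers x ⊔ ⁅H, ⊤⁆ < zpowers y ⊔ (zpowers x ⊔ ⁅H, ⊤⁆) :=
          lt_of_le_of_ne le_sup_right fun e' => hy' (e' ▸ mem_sup_left (mem_zpowers y))
        have := ex_lt hG e1
        have := ex_lt hG e
        have := ex_lt hG e3
        omega
    have hxy : ⁅x, y⁆ ∈ ⁅H, H⁆ := commutator_mem_commutator hx hy
    refine ⟨⁅x, y⁆, hxy, ?_⟩
    set K := zpowers ⁅x, y⁆ ⊔ ⁅⁅H, H⁆, (⊤ : Subgroup G)⁆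
    have hKD : K ≤ ⁅H, H⁆ := sup_le (zpowers_le.2 hxy) (commutator_le_left _ _)
    haveI : K.Normal := ⟨fun k hk g => by
      have h := commutator_mem_commutator (hKD hk) (mem_top g)
      have : g * k * g⁻¹ = ⁅k, g⁆⁻¹ * k := by rw [commutatorElement_def]; group
      rw [this]
      exact mul_mem (inv_mem (mem_sup_right h)) hk⟩
    have hH1K : ⁅cs H 1, H⁆ ≤ K :=
      hc1.trans (le_trans (commutator_mono heq le_rfl) le_sup_right)
    refine gen_comm_le (s := {x, y} ∪ (cs H 1 : Set G)) ?_ ?_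
    · refine hgen.trans (sup_le (zpowers_le.2 (subset_closure (Or.inl (Or.inr rfl))))
        (sup_le (zpowers_le.2 (subset_closure (Or.inl (Or.inl rfl)))) ?_))
      exact fun z hz => subset_closure (Or.inr hz)
    · have hH1 : cs H 1 ≤ H := cs_antitone H (Nat.zero_le 1)
      have hmem : ∀ b, b ∈ ({x, y} ∪ (cs H 1 : Set G)) → b ∈ H := by
        rintro b ((rfl | rfl) | hb)
        exacts [hx, hy, hH1 hb]
      intro a ha b hb
      rcases ha with ha | ha
      · rcases hb with hb | hb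
        · rcases ha with rfl | rfl <;> rcases hb with rfl | rfl
          · rw [commutatorElement_self]; exact one_mem _
          · exact mem_sup_left (mem_zpowers _)
          · rw [← commutatorElement_inv]; exact inv_mem (mem_sup_left (mem_zpowers _))
          · rw [commutatorElement_self]; exact one_mem _
        · rw [← commutatorElement_inv]
          exact inv_mem (hH1K (commutator_mem_commutator hb (hmem a (Or.inl ha))))
      · exact hH1K (commutator_mem_commutator ha (hmem b hb))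

omit hM hD

omit hG hp in
theorem ds_bot : ∀ r, ds (⊥ : Subgroup G) r = ⊥
  | 0 => rfl
  | r + 1 => by show ds ⁅(⊥ : Subgroup G), ⊥⁆ r = ⊥; rw [commutator_bot_left]; exact ds_bot r

end PGroup

variable [Finite G] {p : ℕ} [hp : Fact p.Prime] (hG : IsPGroup p G)

theorem hall : ∀ (r M : ℕ) (H : Subgroup G), H.Normal → H ≤ cs ⊤ M → ds H r ≠ ⊥ →
    2 ^ r * (M + 1) + r + 1 ≤ ex hG H + (M + 1)
  | 0, M, H, _, _, hne => by
    have : 1 ≤ ex hG H := one_le_ex hG hne
    omega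
  | s + 1, M, H, hH, hM, hne => by
    haveI := hH
    have hD : ⁅H, H⁆ ≠ ⊥ := fun e => hne (by show ds ⁅H, H⁆ s = ⊥; rw [e]; exact ds_bot s)
    have h1 := (step hG hM hD).1
    have h2 := hall s (2 * M + 1) ⁅H, H⁆ inferInstance (der_le_lcs hM) hne
    have e : 2 ^ (s + 1) * (M + 1) = 2 ^ s * (2 * M + 1 + 1) := by ring
    omega

theorem cyc_bound (s M : ℕ) (H : Subgroup G) (hH : H.Normal) (hM : H ≤ cs ⊤ M) (hc : Cyc H)
    (hne : ds H (s + 1) ≠ ⊥) :
    2 ^ (s + 1) * (M + 1) + 2 ^ s + s + 1 ≤ ex hG H + (M + 1) := by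
  have hD : ⁅H, H⁆ ≠ ⊥ := fun e => hne (by show ds ⁅H, H⁆ s = ⊥; rw [e]; exact ds_bot s)
  have h1 := (step hG hM hD).1
  have h2 := hall hG s (2 * M + 2) ⁅H, H⁆ inferInstance ((step hG hM hD).2.1 hc) hne
  have e : 2 ^ s * (2 * M + 2 + 1) = 2 ^ (s + 1) * (M + 1) + 2 ^ s := by ring
  omega

theorem mann : ∀ (r M : ℕ) (H : Subgroup G), H.Normal → H ≤ cs ⊤ M → ds H r ≠ ⊥ →
    2 ^ r * (M + 1) + 2 * r + 1 ≤ ex hG H + (M + 1) + 2
  | 0, M, H, hH, hM, hne => by
    have := hall hG 0 M H hH hM hne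
    omega
  | 1, M, H, hH, hM, hne => by
    have := hall hG 1 M H hH hM hne
    omega
  | u + 2, M, H, hH, hM, hne => by
    haveI := hH
    have hD : ⁅H, H⁆ ≠ ⊥ := fun e => hne (by show ds ⁅H, H⁆ (u + 1) = ⊥; rw [e]; exact ds_bot _)
    obtain ⟨h1, -, h3 | h3 | h3⟩ := step hG hM hD
    · have h2 := mann (u + 1) (2 * M + 1) ⁅H, H⁆ inferInstance (der_le_lcs hM) hne
      have e : 2 ^ (u + 2) * (M + 1) = 2 ^ (u + 1) * (2 * M + 1 + 1) := by ring
      omega
    · have h2 := cyc_bound hG (u + 1) M H hH hM h3 hne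
      have : u + 1 < 2 ^ (u + 1) := Nat.lt_two_pow_self
      rw [show u + 1 + 1 = u + 2 by omega] at h2
      omega
    · have h2 := cyc_bound hG u (2 * M + 1) ⁅H, H⁆ inferInstance (der_le_lcs hM) h3 hne
      have e : 2 ^ (u + 2) * (M + 1) = 2 ^ (u + 1) * (2 * M + 1 + 1) := by ring
      have : u < 2 ^ u := Nat.lt_two_pow_self
      omega

end Cfsg.Agent.MannBound
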