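import Mathlib
import Cfsg.Agent.EqLemmas

/-! Babai's bound for the minimal degree of a primitive permutation group (counting of
distinguishing points), classification free. -/

set_option autoImplicit false
set_option linter.unusedSectionVars false
set_option linter.overlappingInstances false

open MulAction Finset

namespace Cfsg.Agent.MinDegreeBabai

universe u v
variable {G : Type u} {Ω : Type v} [Group G] [MulAction G Ω]

/-- `x` and `y` have the same colour seen from `z`. -/
def Same (G : Type u) {Ω : Type v} [Group G] [MulAction G Ω] (z x y : Ω) : Prop :=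
  ∃ h : G, h • z = z ∧ h • x = y

theorem same_refl (z x : Ω) : Same G z x x := ⟨1, one_smul _ _, one_smul _ _⟩

theorem Same.symm {z x y : Ω} (h : Same G z x y) : Same G z y x := by
  obtain ⟨h, hz, hx⟩ := h
  exact ⟨h⁻¹, by rw [inv_smul_eq_iff, hz], by rw [inv_smul_eq_iff, hx]⟩

theorem Same.trans {z x y w : Ω} (h : Same G z x y) (h' : Same G z y w) : Same G z x w := by
  obtain ⟨h, hz, hx⟩ := h
  obtain ⟨k, kz, ky⟩ := h'
  exact ⟨k * h, by rw [mul_smul, hz, kz], by rw [mul_smul, hx, ky]⟩

theorem Same.smul {z x y : Ω} (h : Same G z x y) (g : G) : Same G (g • z) (g • x) (g • y) := by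
  obtain ⟨h, hz, hx⟩ := h
  exact ⟨g * h * g⁻¹, by simp [mul_smul, hz], by simp [mul_smul, hx]⟩

/-- A relation invariant under `G`. -/
def Inv (G : Type u) {Ω : Type v} [Group G] [MulAction G Ω] (P : Ω → Ω → Prop) : Prop :=
  ∀ (g : G) (x y : Ω), P x y → P (g • x) (g • y)

theorem Inv.same {P : Ω → Ω → Prop} (hP : Inv G P) {z x y : Ω} (h : Same G z x y)
    (hx : P z x) : P z y := by
  obtain ⟨h, hz, hy⟩ := h
  have := hP h z x hx
  rwa [hz, hy] at this

theorem Inv.swap {P : Ω → Ω → Prop} (hP : Inv G P) : Inv G (fun x y => P y x) :=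
  fun g x y h => hP g y x h

theorem Inv.iff {P : Ω → Ω → Prop} (hP : Inv G P) (g : G) (x y : Ω) :
    P (g • x) (g • y) ↔ P x y :=
  ⟨fun h => by simpa using hP g⁻¹ _ _ h, hP g x y⟩

section Finite

variable [Fintype Ω] [DecidableEq Ω]

open Classical in
/-- The points distinguishing `x` from `y`. -/
noncomputable def dist (G : Type u) {Ω : Type v} [Group G] [MulAction G Ω] [Fintype Ω]
    (x y : Ω) : ℕ :=
  #{z | ¬ Same G z x y}

theorem dist_comm (x y : Ω) : dist G x y = dist G y x := by
  classical
  unfold dist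
  congr 1
  ext z
  simp only [mem_filter, mem_univ, true_and]
  exact not_congr ⟨Same.symm, Same.symm⟩

theorem dist_self (x : Ω) : dist G x x = 0 := by
  classical
  simp [dist, same_refl]

theorem dist_triangle (x y w : Ω) : dist G x w ≤ dist G x y + dist G y w := by
  classical
  unfold dist
  refine le_trans (card_le_card ?_) (card_union_le _ _)
  intro z
  simp only [mem_filter, mem_univ, true_and, mem_union]
  intro h
  by_contra hc
  rw [not_or, not_not, not_not] at hc
  exact h (hc.1.trans hc.2)

theorem dist_smul (g : G) (x y : Ω) : dist G (g • x) (g • y) = dist G x y := by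
  classical
  unfold dist
  symm
  refine card_bij (fun z _ => g • z) ?_ (fun a _ b _ h => MulAction.injective g h) ?_
  · intro z hz
    simp only [mem_filter, mem_univ, true_and] at hz ⊢
    intro h
    exact hz (by simpa using h.smul g⁻¹)
  · intro z hz
    simp only [mem_filter, mem_univ, true_and] at hz ⊢
    exact ⟨g⁻¹ • z, fun h => hz (by simpa using h.smul g), smul_inv_smul g z⟩

open Classical in
/-- The valency. -/
noncomputable def val (P : Ω → Ω → Prop) (x : Ω) : ℕ := #{y | P x y}

variable [IsPretransitive G Ω]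

theorem Inv.val_eq {P : Ω → Ω → Prop} (hP : Inv G P) (x x' : Ω) : val P x = val P x' := by
  classical
  obtain ⟨g, rfl⟩ := exists_smul_eq G x x'
  unfold val
  refine card_bij (fun z _ => g • z) ?_ (fun a _ b _ h => MulAction.injective g h) ?_
  · intro z hz
    simp only [mem_filter, mem_univ, true_and] at hz ⊢
    exact hP g x z hz
  · intro z hz
    simp only [mem_filter, mem_univ, true_and] at hz ⊢
    refine ⟨g⁻¹ • z, ?_, smul_inv_smul g z⟩
    rwa [← hP.iff g, smul_inv_smul]

theorem Inv.val_swap {P : Ω → Ω → Prop} (hP : Inv G P) (x : Ω) :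
    val (fun a b => P b a) x = val P x := by
  classical
  have key : ∑ a, val P a = ∑ a, val (fun a b => P b a) a := by
    simp only [val, card_filter]
    exact sum_comm
  rw [sum_congr rfl (fun a _ => hP.val_eq a x),
    sum_congr rfl (fun a _ => hP.swap.val_eq (G := G) a x), sum_const, sum_const,
    smul_eq_mul, smul_eq_mul] at key
  have : 0 < Fintype.card Ω := Fintype.card_pos_iff.2 ⟨x⟩
  exact (Nat.eq_of_mul_eq_mul_left this key).symm

/-- Averaging: an invariant subset of valency `t` forces a pair far apart. -/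
theorem avg_bound {P : Ω → Ω → Prop} (hP : Inv G P) (M : ℕ) (hM : ∀ x y : Ω, dist G x y ≤ M)
    (x₀ : Ω) :
    2 * val P x₀ * (Fintype.card Ω - val P x₀) ≤ M * Fintype.card Ω := by
  classical
  set n := Fintype.card Ω
  set t := val P x₀
  have hz : ∀ z : Ω, 2 * t * (n - t) ≤ #{q : Ω × Ω | ¬ Same G z q.1 q.2} := by
    intro z
    set T : Finset Ω := {y | P z y} with hT
    have hTt : #T = t := hP.val_eq z x₀
    have hsub : T ×ˢ Tᶜ ∪ Tᶜ ×ˢ T ⊆
        ({q | ¬ Same G z q.1 q.2} : Finset (Ω × Ω)) := by
      intro q hq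
      simp only [hT, mem_union, mem_product, mem_compl, mem_filter, mem_univ, true_and] at hq ⊢
      rintro h
      rcases hq with ⟨h1, h2⟩ | ⟨h1, h2⟩
      · exact h2 (hP.same h h1)
      · exact h1 (hP.same h.symm h2)
    have hd : Disjoint (T ×ˢ Tᶜ) (Tᶜ ×ˢ T) := by
      rw [disjoint_left]
      intro q h1 h2
      simp only [mem_product, mem_compl] at h1 h2
      exact h2.1 h1.1
    have := card_le_card hsub
    rw [card_union_of_disjoint hd, card_product, card_product, card_compl, hTt] at this
    calc 2 * t * (n - t) = t * (n - t) + (n - t) * t := by ring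
      _ ≤ _ := this
  have hswap : ∑ z, #{q : Ω × Ω | ¬ Same G z q.1 q.2} = ∑ q : Ω × Ω, dist G q.1 q.2 := by
    simp only [dist, card_filter]
    exact sum_comm
  have h1 : n * (2 * t * (n - t)) ≤ ∑ z, #{q : Ω × Ω | ¬ Same G z q.1 q.2} := by
    calc n * (2 * t * (n - t)) = ∑ _z : Ω, 2 * t * (n - t) := by simp [n]
      _ ≤ _ := sum_le_sum (fun z _ => hz z)
  have h2 : ∑ q : Ω × Ω, dist G q.1 q.2 ≤ n * n * M := by
    calc ∑ q : Ω × Ω, dist G q.1 q.2 ≤ ∑ _q : Ω × Ω, M := sum_le_sum (fun q _ => hM _ _)
      _ = n * n * M := by simp [n]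
  have h3 : n * (2 * t * (n - t)) ≤ n * (M * n) := by
    calc _ ≤ _ := h1.trans (hswap.le.trans h2)
      _ = n * (M * n) := by ring
  exact Nat.le_of_mul_le_mul_left h3 (Fintype.card_pos_iff.2 ⟨x₀⟩)

/-- Within distance two in the graph of `R`. -/
def Within (R : Ω → Ω → Prop) (x w : Ω) : Prop := x = w ∨ R x w ∨ ∃ y, R x y ∧ R y w

/-- A symmetric irreflexive invariant relation. -/
structure Graph (G : Type u) {Ω : Type v} [Group G] [MulAction G Ω] (R : Ω → Ω → Prop) : Prop where
  inv : Inv G R
  symm : ∀ x y, R x y → R y x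
  irrefl : ∀ x, ¬ R x x
  nonempty : ∃ x y, R x y

/-- Balls of the graph. -/
def ball (R : Ω → Ω → Prop) (z : Ω) : ℕ → Ω → Prop
  | 0 => fun v => v = z
  | t + 1 => fun v => ball R z t v ∨ ∃ y, ball R z t y ∧ R y v

theorem ball_smul {R : Ω → Ω → Prop} (hR : Inv G R) (g : G) (z : Ω) :
    ∀ t v, ball R z t v → ball R (g • z) t (g • v)
  | 0, v, h => by cases h; rfl
  | t + 1, v, h => by
    rcases h with h | ⟨y, hy, hyv⟩
    · exact Or.inl (ball_smul hR g z t v h)
    · exact Or.inr ⟨g • y, ball_smul hR g z t y hy, hR g y v hyv⟩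

variable [IsPreprimitive G Ω]

/-- The graph is connected, by primitivity. -/
theorem Graph.eqvGen {R : Ω → Ω → Prop} (hR : Graph G R) (x y : Ω) : Relation.EqvGen R x y := by
  obtain ⟨a, b, hab⟩ := hR.nonempty
  let B : Set Ω := {v | Relation.EqvGen R a v}
  have hsm : ∀ (g : G) {u v : Ω}, Relation.EqvGen R u v → Relation.EqvGen R (g • u) (g • v) := by
    intro g u v h
    induction h with
    | rel u v h => exact .rel _ _ (hR.inv g u v h)
    | refl u => exact .refl _
    | symm u v _ ih => exact .symm _ _ ih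
    | trans u v w _ _ i1 i2 => exact .trans _ _ _ i1 i2
  have hB : IsBlock G B := by
    rw [isBlock_iff_smul_eq_of_nonempty]
    intro g ⟨v, hv1, hv2⟩
    obtain ⟨u, hu, huv⟩ := hv1
    simp only at huv
    subst huv
    have hga : Relation.EqvGen R a (g • a) := .trans _ _ _ hv2 (.symm _ _ (hsm g hu))
    ext w
    rw [Set.mem_smul_set_iff_inv_smul_mem]
    constructor
    · intro hw
      refine .trans _ _ _ hga ?_
      simpa using hsm g hw
    · intro hw
      have := hsm g⁻¹ (Relation.EqvGen.trans _ _ _ (Relation.EqvGen.symm _ _ hga) hw)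
      simpa [B] using this
  rcases IsPreprimitive.isTrivialBlock_of_isBlock hB with h | h
  · exfalso
    have : a = b := h (show a ∈ B from .refl _) (show b ∈ B from .rel _ _ hab)
    exact hR.irrefl a (this ▸ hab)
  · have hx : x ∈ B := by rw [h]; trivial
    have hy : y ∈ B := by rw [h]; trivial
    exact .trans _ _ _ (.symm _ _ hx) hy

/-- Sets closed under adjacency are everything. -/
theorem Graph.closed_univ {R : Ω → Ω → Prop} (hR : Graph G R) {P : Ω → Prop} {z : Ω} (hz : P z)
    (hcl : ∀ u v, P u → R u v → P v) (w : Ω) : P w := by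
  have : ∀ {u v : Ω}, Relation.EqvGen R u v → (P u ↔ P v) := by
    intro u v h
    induction h with
    | rel u v h => exact ⟨fun p => hcl u v p h, fun p => hcl v u p (hR.symm u v h)⟩
    | refl u => exact Iff.rfl
    | symm u v _ ih => exact ih.symm
    | trans u v w _ _ i1 i2 => exact i1.trans i2
  exact (this (hR.eqvGen z w)).1 hz

theorem Graph.exists_ball {R : Ω → Ω → Prop} (hR : Graph G R) (z w : Ω) : ∃ t, ball R z t w :=
  hR.closed_univ (P := fun v => ∃ t, ball R z t v) ⟨0, rfl⟩
    (fun u v ⟨t, ht⟩ huv => ⟨t + 1, Or.inr ⟨u, ht, huv⟩⟩) w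

theorem Graph.parent {R : Ω → Ω → Prop} (hR : Graph G R) {z v : Ω} (hv : v ≠ z) :
    ∃ y, R y v ∧ ¬ Same G z y v := by
  classical
  have hex := hR.exists_ball z v
  have hspec := Nat.find_spec hex
  have hmin : ∀ t, t < Nat.find hex → ¬ ball R z t v := fun t ht => Nat.find_min hex ht
  cases hf : Nat.find hex with
  | zero => rw [hf] at hspec; exact absurd hspec hv
  | succ t =>
    rw [hf] at hspec hmin
    rcases hspec with h | ⟨y, hy, hyv⟩
    · exact absurd h (hmin t (Nat.lt_succ_self t))
    · refine ⟨y, hyv, fun ⟨h, hz, hyh⟩ => hmin t (Nat.lt_succ_self t) ?_⟩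
      have := ball_smul hR.inv h z t y hy
      rwa [hz, hyh] at this

/-- Counting the distinguished edges from every point. -/
theorem Graph.edge_bound {R : Ω → Ω → Prop} (hR : Graph G R) (d : ℕ)
    (hd : ∀ x y, R x y → dist G x y ≤ d) (x₀ : Ω) :
    Fintype.card Ω ≤ val R x₀ * d + 1 := by
  classical
  set n := Fintype.card Ω
  set E : Finset (Ω × Ω) := {q | R q.1 q.2} with hE
  have hz : ∀ z : Ω, n - 1 ≤ #{q ∈ E | ¬ Same G z q.1 q.2} := by
    intro z
    have hsub : ((univ : Finset Ω).erase z) ⊆
        ({q ∈ E | ¬ Same G z q.1 q.2}).image Prod.snd := by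
      intro v hv
      obtain ⟨y, hy, hys⟩ := hR.parent (z := z) (v := v) (by simpa using hv)
      simp only [mem_image, mem_filter, hE, mem_univ, true_and]
      exact ⟨(y, v), ⟨hy, hys⟩, rfl⟩
    have := (card_le_card hsub).trans card_image_le
    rwa [card_erase_of_mem (mem_univ z), card_univ] at this
  have hswap : ∑ z, #{q ∈ E | ¬ Same G z q.1 q.2} = ∑ q ∈ E, dist G q.1 q.2 := by
    simp only [dist, card_filter]
    exact sum_comm
  have hEc : #E = n * val R x₀ := by
    calc #E = ∑ x, val R x := by
          simp only [hE, val, card_filter]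
          exact Fintype.sum_prod_type _
      _ = ∑ _x : Ω, val R x₀ := sum_congr rfl (fun x _ => hR.inv.val_eq x x₀)
      _ = n * val R x₀ := by simp [n]
  have h1 : n * (n - 1) ≤ n * (val R x₀ * d) := by
    calc n * (n - 1) = ∑ _z : Ω, (n - 1) := by simp [n]
      _ ≤ ∑ z, #{q ∈ E | ¬ Same G z q.1 q.2} := sum_le_sum (fun z _ => hz z)
      _ = ∑ q ∈ E, dist G q.1 q.2 := hswap
      _ ≤ ∑ _q ∈ E, d := sum_le_sum (fun q hq => hd _ _ (by simpa [hE] using hq))
      _ = n * (val R x₀ * d) := by simp [hEc, mul_assoc]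
  have := Nat.le_of_mul_le_mul_left h1 (Fintype.card_pos_iff.2 ⟨x₀⟩)
  omega

/-- Either the diameter is at most two, or there is a pair at distance three. -/
theorem Graph.within_or {R : Ω → Ω → Prop} (hR : Graph G R) :
    (∀ x w, Within R x w) ∨
      ∃ x a b w, R x a ∧ R a b ∧ R b w ∧ ¬ Within R x w := by
  by_cases h : ∃ x a b w, R x a ∧ R a b ∧ R b w ∧ ¬ Within R x w
  · exact Or.inr h
  · push Not at h
    refine Or.inl fun x w => hR.closed_univ (P := Within R x) (Or.inl rfl) ?_ w
    intro u v hu huv
    rcases hu with rfl | hu | ⟨y, hxy, hyu⟩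
    · exact Or.inr (Or.inl huv)
    · exact Or.inr (Or.inr ⟨u, hu, huv⟩)
    · exact h x y u v hxy hyu huv

/-- Two points at distance three are distinguished by both neighbourhoods. -/
theorem Graph.far_bound {R : Ω → Ω → Prop} (hR : Graph G R) {x w : Ω} (h : ¬ Within R x w)
    (x₀ : Ω) : 2 * val R x₀ ≤ dist G x w := by
  classical
  set A : Finset Ω := {y | R x y} with hA
  set B : Finset Ω := {y | R w y} with hB
  have hsub : A ∪ B ⊆ ({z | ¬ Same G z x w} : Finset Ω) := by
    intro z hz
    simp only [hA, hB, mem_union, mem_filter, mem_univ, true_and] at hz ⊢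
    intro hs
    rcases hz with hz | hz
    · exact h (Or.inr (Or.inr ⟨z, hz, hR.inv.same hs (hR.symm _ _ hz)⟩))
    · exact h (Or.inr (Or.inr ⟨z, hR.symm _ _ (hR.inv.same hs.symm (hR.symm _ _ hz)),
        hR.symm _ _ hz⟩))
  have hd : Disjoint A B := by
    rw [disjoint_left]
    intro z hz hz'
    simp only [hA, hB, mem_filter, mem_univ, true_and] at hz hz'
    exact h (Or.inr (Or.inr ⟨z, hz, hR.symm _ _ hz'⟩))
  have := card_le_card hsub
  rw [card_union_of_disjoint hd] at this
  calc 2 * val R x₀ = #A + #B := by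
        rw [show #A = val R x₀ from hR.inv.val_eq x x₀, show #B = val R x₀ from hR.inv.val_eq w x₀]
        ring
    _ ≤ _ := this

/-- A graph of diameter two has at most `a² + 1` points. -/
theorem Graph.two_bound {R : Ω → Ω → Prop} (hR : Graph G R) (h : ∀ x w, Within R x w) (z : Ω) :
    Fintype.card Ω ≤ val R z * val R z + 1 := by
  classical
  set N : Finset Ω := {y | R z y} with hN
  have hsub : (univ : Finset Ω) ⊆
      insert z (N ∪ N.biUnion (fun y => ({v | R y v} : Finset Ω).erase z)) := by
    intro v _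
    simp only [hN, mem_insert, mem_union, mem_biUnion, mem_filter, mem_univ, true_and, mem_erase]
    by_cases hv : v = z
    · exact Or.inl hv
    rcases h z v with h | h | ⟨y, h1, h2⟩
    · exact absurd h.symm hv
    · exact Or.inr (Or.inl h)
    · exact Or.inr (Or.inr ⟨y, h1, hv, h2⟩)
  have hb : #(N.biUnion (fun y => ({v | R y v} : Finset Ω).erase z)) ≤ #N * (val R z - 1) := by
    refine card_biUnion_le_card_mul _ _ _ (fun y hy => ?_)
    simp only [hN, mem_filter, mem_univ, true_and] at hy
    rw [card_erase_of_mem (by simpa using hR.symm _ _ hy)]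
    exact le_of_eq (by rw [← hR.inv.val_eq y z]; rfl)
  have hNc : #N = val R z := rfl
  have := (card_le_card hsub).trans ((card_insert_le _ _).trans
    (Nat.add_le_add_right (card_union_le _ _) 1))
  rw [card_univ] at this
  rw [hNc] at hb this
  have e : val R z + val R z * (val R z - 1) = val R z * val R z := by
    cases val R z with
    | zero => rfl
    | succ a => rw [Nat.add_sub_cancel]; ring
  omega

/-- The symmetrised orbital of `(u, v)`. -/
def orb (G : Type u) {Ω : Type v} [Group G] [MulAction G Ω] (u v : Ω) (x y : Ω) : Prop :=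
  ∃ h : G, h • u = x ∧ h • v = y

def sorb (G : Type u) {Ω : Type v} [Group G] [MulAction G Ω] (u v : Ω) (x y : Ω) : Prop :=
  orb G u v x y ∨ orb G u v y x

theorem orb_inv (u v : Ω) : Inv G (orb G u v) := by
  rintro g x y ⟨h, hu, hv⟩
  exact ⟨g * h, by rw [mul_smul, hu], by rw [mul_smul, hv]⟩

theorem sorb_graph {u v : Ω} (huv : u ≠ v) : Graph G (sorb G u v) where
  inv := by
    rintro g x y (h | h)
    · exact Or.inl (orb_inv u v g x y h)
    · exact Or.inr (orb_inv u v g y x h)
  symm := fun x y h => Or.symm h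
  irrefl := by
    rintro x (⟨h, h1, h2⟩ | ⟨h, h1, h2⟩) <;> exact huv (MulAction.injective h (h1.trans h2.symm))
  nonempty := ⟨u, v, Or.inl ⟨1, one_smul _ _, one_smul _ _⟩⟩

theorem sorb_dist {u v x y : Ω} (h : sorb G u v x y) : dist G x y = dist G u v := by
  rcases h with ⟨h, rfl, rfl⟩ | ⟨h, rfl, rfl⟩
  · exact dist_smul h u v
  · rw [dist_comm]; exact dist_smul h u v

/-- In rank at least three, some pair is distinguished by at least `√(n-1)` points. -/
theorem far_pair (hn : 6 ≤ Fintype.card Ω) {a b b' : Ω} (hab : b ≠ a) (hab' : b' ≠ a)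
    (hns : ¬ Same G a b b') (M : ℕ) (hM : ∀ x y : Ω, dist G x y ≤ M) :
    Fintype.card Ω ≤ M * M + 1 := by
  classical
  set n := Fintype.card Ω with hndef
  obtain ⟨v, hva, hk⟩ : ∃ v, v ≠ a ∧ 2 * val (orb G a v) a ≤ n := by
    by_contra hc
    push Not at hc
    have h1 := hc b hab
    have h2 := hc b' hab'
    have hd : Disjoint ({y | orb G a b a y} : Finset Ω) ({y | orb G a b' a y} : Finset Ω) := by
      rw [disjoint_left]
      intro y hy hy'
      simp only [mem_filter, mem_univ, true_and] at hy hy'
      exact hns (Same.trans (G := G) (y := y) hy (Same.symm hy'))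
    have := card_le_univ (({y | orb G a b a y} : Finset Ω) ∪ ({y | orb G a b' a y} : Finset Ω))
    rw [card_union_of_disjoint hd] at this
    change val (orb G a b) a + val (orb G a b') a ≤ n at this
    omega
  have hR : Graph G (sorb G a v) := sorb_graph (Ne.symm hva)
  set R := sorb G a v
  set A := val R a
  rcases hR.within_or with h | ⟨x, p, q, w, -, -, -, hxw⟩
  · have hA : n ≤ A * A + 1 := hR.two_bound h a
    by_cases hA2 : 2 * A ≤ n
    · have hav : 2 * A * (n - A) ≤ M * n := avg_bound (G := G) hR.inv M hM a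
      have : A * n ≤ M * n := by
        refine le_trans ?_ hav
        calc A * n ≤ A * (2 * (n - A)) := Nat.mul_le_mul_left _ (by omega)
          _ = 2 * A * (n - A) := by ring
      have hAM : A ≤ M := Nat.le_of_mul_le_mul_right this (by omega)
      exact hA.trans (Nat.add_le_add_right (Nat.mul_le_mul hAM hAM) 1)
    · set k := val (orb G a v) a
      have hA2k : A ≤ 2 * k := by
        have hle : ({y | R a y} : Finset Ω) ⊆
            ({y | orb G a v a y} : Finset Ω) ∪ ({y | orb G a v y a} : Finset Ω) := by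
          intro y hy
          simp only [mem_filter, mem_univ, true_and, mem_union] at hy ⊢
          exact hy
        have := (card_le_card hle).trans (card_union_le _ _)
        change A ≤ k + val (fun x y => orb G a v y x) a at this
        rw [(orb_inv a v).val_swap (G := G) a] at this
        omega
      have hav : 2 * k * (n - k) ≤ M * n := avg_bound (G := G) (orb_inv a v) M hM a
      obtain ⟨r, hr⟩ : ∃ r, n = k + r := ⟨n - k, by omega⟩
      rw [show n - k = r by omega] at hav
      have h8 : 3 * n ≤ 8 * M := by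
        have : 3 * n * n ≤ 8 * M * n := by nlinarith
        exact Nat.le_of_mul_le_mul_right this (by omega)
      nlinarith
  · have h1 : n ≤ A * dist G a v + 1 := hR.edge_bound (dist G a v) (fun x y h => (sorb_dist h).le) a
    have h2 : 2 * A ≤ M := (hR.far_bound hxw a).trans (hM _ _)
    have h3 : A * dist G a v ≤ M * M := Nat.mul_le_mul (by omega) (hM _ _)
    omega

/-- Babai: in rank at least three any two points are distinguished by at least
`(√n - 1)/2` points. -/
theorem dist_bound (hn : 6 ≤ Fintype.card Ω) {a b b' : Ω} (hab : b ≠ a) (hab' : b' ≠ a)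
    (hns : ¬ Same G a b b') {x y : Ω} (hxy : x ≠ y) :
    Fintype.card Ω ≤ (2 * dist G x y + 1) * (2 * dist G x y + 1) := by
  classical
  have hR : Graph G (sorb G x y) := sorb_graph hxy
  set D := dist G x y
  set R := sorb G x y
  have hD : ∀ p q, R p q → dist G p q = D := fun p q h => sorb_dist h
  rcases hR.within_or with h | ⟨p, u, w, q, h1, h2, h3, hpq⟩
  · have hM : ∀ p q : Ω, dist G p q ≤ 2 * D := by
      intro p q
      rcases h p q with rfl | h | ⟨r, h1, h2⟩
      · simp [dist_self]
      · rw [hD p q h]; omega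
      · have := dist_triangle (G := G) p r q
        rw [hD p r h1, hD r q h2] at this
        omega
    have := far_pair hn hab hab' hns (2 * D) hM
    nlinarith
  · have he := hR.edge_bound D (fun p q h => (hD p q h).le) x
    have hf := hR.far_bound hpq x
    have t1 := dist_triangle (G := G) p u q
    have t2 := dist_triangle (G := G) u w q
    rw [hD p u h1] at t1
    rw [hD u w h2, hD w q h3] at t2
    set A := val R x
    have hA : 2 * A ≤ 3 * D := by omega
    nlinarith

/-- A fixed point does not distinguish a point from its image. -/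
theorem dist_le_moved (g : G) (x : Ω) :
    dist G x (g • x) ≤ #({z | g • z ≠ z} : Finset Ω) := by
  classical
  refine card_le_card fun z => ?_
  simp only [mem_filter, mem_univ, true_and]
  exact fun h hz => h ⟨g, hz, rfl⟩

end Finite

end Cfsg.Agent.MinDegreeBabai
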